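import Groth.Agent.ShriekDual7.Main
import Groth.Agent.S0342
import Groth.Agent.S0366
import Groth.Agent.S11179
import Groth.Agent.KFlatLib.Ring.DualizingLocalExt
import Groth.Agent.PerfGen7.RelComp
import Mathlib.AlgebraicGeometry.ZariskisMainTheorem

/-!
# `Ext` of a closed point into the dualizing complex of a scheme proper over a field
-/

set_option linter.style.haveILetI false
set_option backward.isDefEq.respectTransparency false
set_option backward.isDefEq.respectTransparency.types false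
set_option maxHeartbeats 4000000

universe u

open CategoryTheory CategoryTheory.Limits AlgebraicGeometry

attribute [local instance] HasDerivedCategory.standard

namespace Groth.Agent.DualField7

open Groth.Agent.KFlatLib Groth.Agent.ShriekDual7

/-- Over a field the only `Ext` of a finite module into the field is in degree zero. -/
theorem subsingleton_ext_field (k : Type u) [Field k] (M : Type u) [AddCommGroup M] [Module k M]
    [Module.Finite k M] (i : ℤ) (hi : i ≠ 0) : Subsingleton (Dual.inD k M ⟶ (Dual.inD k k)⟦i⟧) := by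
  haveI : IsRegularLocalRing k := inferInstance
  have hω : Dual.IsDualizing k (Dual.inD k k) :=
    (Groth.Agent.S11179.result k).1 (Groth.Agent.S0342.result k)
  have hn : Dual.IsNormalized k (Dual.inD k k) := by
    intro l hl
    obtain ⟨e⟩ := exists_homRingLEquiv (Dual.inD k k) l
    have h0 : Subsingleton (Dual.HD k (Dual.inD k k) l) := ModuleCat.subsingleton_of_isZero (by
      rcases lt_or_gt_of_ne hl with h | h
      · exact DerivedCategory.isZero_of_isGE _ 0 l h
      · exact DerivedCategory.isZero_of_isLE _ 0 l h)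
    haveI : Subsingleton (Dual.inD k k ⟶ (Dual.inD k k)⟦l⟧) := e.toEquiv.subsingleton
    let q : IsLocalRing.ResidueField k ≃ₗ[k] k := by
      refine (Submodule.quotEquivOfEqBot (IsLocalRing.maximalIdeal k) ?_)
      exact (IsLocalRing.isField_iff_maximalIdeal_eq.1 (Field.toIsField k))
    exact (Iso.homCongr ((DerivedCategory.singleFunctor (ModuleCat.{u} k) 0).mapIso q.toModuleIso)
      (Iso.refl ((Dual.inD k k)⟦l⟧))).subsingleton
  by_cases hM : Subsingleton M
  · refine ⟨fun a b => IsZero.eq_of_src ?_ a b⟩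
    exact Functor.map_isZero _ (ModuleCat.isZero_of_subsingleton _)
  · haveI : Nontrivial M := not_subsingleton_iff_nontrivial.1 hM
    have hd : Module.supportDim k M = ((0 : ℕ) : WithBot ℕ∞) := by
      refine le_antisymm ((Module.supportDim_le_ringKrullDim k M).trans ?_) ?_
      · simp [ringKrullDim_eq_zero_of_field]
      · have := Module.supportDim_ne_bot_of_nontrivial k M
        obtain ⟨e, he⟩ := WithBot.ne_bot_iff_exists.1 this
        rw [← he]
        exact_mod_cast bot_le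
    refine not_nontrivial_iff_subsingleton.1 fun h => hi ?_
    obtain ⟨h1, h2⟩ := (Groth.Agent.S0366.result k _ hω hn M 0 hd i).1 h
    omega

variable [∀ (R : CommRingCat.{u}), PreservesFiniteLimits (tilde.functor R)]

/-- Maps from `N^~` to `a(M^~)` for a morphism of affine schemes. -/
theorem nonempty_hom_equiv {A B : Type u} [CommRing A] [CommRing B] (φ : A →+* B)
    [DCoh.HasRpush (Spec.map (CommRingCat.ofHom φ))]
    (hs : DCoh.RpushPreservesQCoh (Spec.map (CommRingCat.ofHom φ)))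
    (N : Dual.D B) (M : Dual.D A) :
    Nonempty (((DCoh.RpushQ (Spec.map (CommRingCat.ofHom φ)) hs).obj ((tildeDQ (CommRingCat.of B)).obj N) ⟶
        (tildeDQ (CommRingCat.of A)).obj M) ≃ ((DRing.restrictD φ).obj N ⟶ M)) := by
  obtain ⟨r⟩ := KFlatLib.nonempty_tildeD_rpush_iso (CommRingCat.ofHom φ)
  haveI := isEquivalence_tildeDQ (CommRingCat.of A)
  let e : (DCoh.RpushQ (Spec.map (CommRingCat.ofHom φ)) hs).obj ((tildeDQ (CommRingCat.of B)).obj N) ≅
      (tildeDQ (CommRingCat.of A)).obj ((DRing.restrictD φ).obj N) :=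
    ObjectProperty.isoMk _ (r.app N)
  exact ⟨(Iso.homCongr e (Iso.refl _)).trans
    (Functor.FullyFaithful.ofFullyFaithful (tildeDQ (CommRingCat.of A))).homEquiv.symm⟩

variable [∀ (U V : Scheme.{u}) (j : U ⟶ V) [IsOpenImmersion j], PreservesFiniteLimits (Scheme.Modules.restrictFunctor j)]

/-- At a closed point of a scheme proper over a field the dualizing complex is normalized. -/
theorem subsingleton_ext_closed {k : Type u} [Field k] {X : Scheme.{u}}
    (f : X ⟶ Spec (CommRingCat.of k)) [IsProper f] [DCoh.HasRpush f] (hf : DCoh.RpushPreservesQCoh f)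
    {a : DCoh.DQCoh (Spec (CommRingCat.of k)) ⥤ DCoh.DQCoh X} (adj : DCoh.RpushQ f hf ⊣ a)
    (O : DCoh.DQCoh (Spec (CommRingCat.of k)))
    (eO : O.obj ≅ (DCoh.tildeD (CommRingCat.of k)).obj (Dual.inD k k))
    {B : Type u} [CommRing B] (j : Spec (CommRingCat.of B) ⟶ X) [IsOpenImmersion j] {ω : Dual.D B}
    (e : (rho j).obj (a.obj O).obj ≅ (DCoh.tildeD (CommRingCat.of B)).obj ω)
    (m : Ideal B) [m.IsMaximal] (l : ℤ) (hl : l ≠ 0) :
    Subsingleton (Dual.inD B (B ⧸ m) ⟶ ω⟦l⟧) := by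
  letI : Field (B ⧸ m) := Ideal.Quotient.field m
  let ψ : k →+* B := (Spec.preimage (j ≫ f)).hom
  let χ : k →+* B ⧸ m := (Ideal.Quotient.mk m).comp ψ
  let q := Spec.map (CommRingCat.ofHom (Ideal.Quotient.mk m))
  let i := q ≫ j
  let s := Spec.map (CommRingCat.ofHom χ)
  have hif : i ≫ f = s := by
    have hj : Spec.map (CommRingCat.ofHom ψ) = j ≫ f := Spec.map_preimage _
    simp only [i, s, χ, Category.assoc, ← hj, q]
    rw [← Spec.map_comp]
    rfl
  letI := χ.toAlgebra
  haveI : IsClosedImmersion q := IsClosedImmersion.spec_of_surjective _ Ideal.Quotient.mk_surjective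
  haveI : LocallyOfFiniteType i := inferInstance
  haveI : LocallyOfFiniteType (i ≫ f) := inferInstance
  haveI : LocallyOfFiniteType s := by rw [← hif]; infer_instance
  haveI : Algebra.FiniteType k (B ⧸ m) :=
    (HasRingHomProperty.Spec_iff (P := @LocallyOfFiniteType)).1 ‹LocallyOfFiniteType s›
  haveI : Module.Finite k (B ⧸ m) := finite_of_finite_type_of_isJacobsonRing k (B ⧸ m)
  haveI : IsFinite s := (IsFinite.SpecMap_iff _).2 (RingHom.finite_algebraMap.2 ‹_›)
  haveI : IsProper (i ≫ f) := hif ▸ inferInstance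
  haveI : IsProper i := IsProper.of_comp i f
  haveI : IsClosedImmersion q := IsClosedImmersion.spec_of_surjective _ Ideal.Quotient.mk_surjective
  haveI : Mono i := inferInstance
  haveI : IsClosedImmersion i := (IsClosedImmersion.iff_isProper_and_mono _).2 ⟨inferInstance, inferInstance⟩
  haveI : IsLocallyNoetherian X := LocallyOfFiniteType.isLocallyNoetherian f
  haveI : CompactSpace X := QuasiCompact.compactSpace_of_compactSpace f
  haveI : IsNoetherian X := {}
  haveI : IsNoetherian (Spec (CommRingCat.of (B ⧸ m))) := inferInstance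
  haveI := hasRpush_scheme i
  haveI := hasRpush_scheme q
  haveI := hasRpush_scheme s
  have hi : DCoh.RpushPreservesQCoh i := fun K hK => KFlatLib.isQCohD_rpush i hK
  have hq : DCoh.RpushPreservesQCoh q := fun K hK => KFlatLib.isQCohD_rpush q hK
  have hs : DCoh.RpushPreservesQCoh s := fun K hK => KFlatLib.isQCohD_rpush s hK
  haveI : (DCoh.RpushQ i hi).IsLeftAdjoint := Groth.Agent.S1766.result _ _ i hi
  haveI : (DCoh.RpushQ q hq).IsLeftAdjoint := Groth.Agent.S1766.result _ _ q hq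
  let adji := Adjunction.ofIsLeftAdjoint (DCoh.RpushQ i hi)
  let adjq := Adjunction.ofIsLeftAdjoint (DCoh.RpushQ q hq)
  obtain ⟨_, _⟩ := ShriekTensor7.exists_commShift_rightAdjoint f hf adj
  let TB := tildeDQ (CommRingCat.of B)
  let Tk := tildeDQ (CommRingCat.of k)
  let Tκ := tildeDQ (CommRingCat.of (B ⧸ m))
  let N := Dual.inD (B ⧸ m) (B ⧸ m)
  let Kl := Tk.obj ((Dual.inD k k)⟦l⟧)
  let eK : Kl ≅ O⟦l⟧ := ObjectProperty.isoMk _
    (((DCoh.tildeD (CommRingCat.of k)).commShiftIso l).app _ ≪≫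
      (shiftFunctor _ l).mapIso eO.symm ≪≫ (((ObjectProperty.ι _).commShiftIso l).app O).symm)
  let eR : (ShriekSupp7.restrictQ j).obj (a.obj Kl) ≅ TB.obj (ω⟦l⟧) := ObjectProperty.isoMk _
    ((rho j).mapIso ((ObjectProperty.ι _).mapIso (a.mapIso eK ≪≫ (a.commShiftIso l).app O) ≪≫
      ((ObjectProperty.ι _).commShiftIso l).app (a.obj O)) ≪≫ ((rho j).commShiftIso l).app _ ≪≫
      (shiftFunctor _ l).mapIso e ≪≫ (((DCoh.tildeD (CommRingCat.of B)).commShiftIso l).app ω).symm)
  obtain ⟨b, hb⟩ : ∃ b : ℤ, (a.obj Kl).obj.IsGE b := by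
    haveI : Kl.obj.IsGE (0 - l) := by
      haveI : (Dual.inD k k).IsGE 0 := by
        show DerivedCategory.IsGE ((DerivedCategory.singleFunctor (ModuleCat.{u} k) 0).obj _) 0
        infer_instance
      haveI : ((Dual.inD k k)⟦l⟧).IsGE (0 - l) :=
        DerivedCategory.TStructure.t.isGE_shift _ 0 _ _ (by omega)
      exact (DerivedCategory.isGE_iff _ _).2 fun p hp => Functor.map_isZero (tilde.functor _)
        (DerivedCategory.isZero_of_isGE ((Dual.inD k k)⟦l⟧) (0 - l) p hp) |>.of_iso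
        ((mapDCHomologyIso (tilde.functor (CommRingCat.of k)) p).app _)
    obtain ⟨N', hN⟩ := exists_rightAdjoint_bound f hf a adj
    exact ⟨_, (DerivedCategory.isGE_iff _ ((0 - l) - 1 - N' + 1)).2 fun p hp =>
      hN Kl ((0 - l) - 1) (fun p hp => DerivedCategory.isZero_of_isGE Kl.obj (0 - l) p (by omega)) p (by omega)⟩
  haveI := hb
  obtain ⟨r⟩ := ShriekIndep7.nonempty_rightAdjoint_restrict i hi adji j (𝟙 _)
    (by
      ext z
      refine ⟨fun _ => ⟨q z, rfl⟩, fun _ => ⟨z, rfl⟩⟩) q (Category.id_comp _) hq adjq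
  let ι := ObjectProperty.ι (DCoh.IsQCohD (X := Spec (CommRingCat.of (B ⧸ m))))
  have h0 : (rho (𝟙 (Spec (CommRingCat.of (B ⧸ m))))).obj
        ((DCoh.RpushQ i hi).rightAdjoint.obj (a.obj Kl)).obj ≅
      ((DCoh.RpushQ i hi).rightAdjoint.obj (a.obj Kl)).obj :=
    PerfGen7.rhoId _
  let c : (DCoh.RpushQ i hi).rightAdjoint.obj (a.obj Kl) ≅ (DCoh.RpushQ q hq).rightAdjoint.obj (TB.obj (ω⟦l⟧)) :=
    ObjectProperty.isoMk _ (h0.symm ≪≫ r.app ⟨a.obj Kl, b, hb⟩ ≪≫
      ι.mapIso ((DCoh.RpushQ q hq).rightAdjoint.mapIso eR))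
  obtain ⟨eq₁⟩ := nonempty_hom_equiv (Ideal.Quotient.mk m) hq N (ω⟦l⟧)
  obtain ⟨eq₂⟩ := nonempty_hom_equiv χ hs N ((Dual.inD k k)⟦l⟧)
  obtain ⟨cc⟩ : Nonempty ((DCoh.RpushQ f hf).obj ((DCoh.RpushQ i hi).obj (Tκ.obj N)) ≅
      (DCoh.RpushQ s hs).obj (Tκ.obj N)) := by
    haveI := hasRpush_scheme (i ≫ f)
    obtain ⟨cc⟩ := nonempty_rpush_comp i f
    refine ⟨ObjectProperty.isoMk _ (cc.app _ ≪≫ ?_)⟩
    exact (eqToIso (show DCoh.Rpush (i ≫ f) = DCoh.Rpush s by congr 1)).app _
  haveI : Subsingleton ((DRing.restrictD χ).obj N ⟶ (Dual.inD k k)⟦l⟧) := by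
    haveI : Subsingleton ((ModuleCat.restrictScalars.{u} χ ⋙ DerivedCategory.singleFunctor (ModuleCat.{u} k) 0).obj
        (ModuleCat.of (B ⧸ m) (B ⧸ m)) ⟶ (Dual.inD k k)⟦l⟧) :=
      subsingleton_ext_field k (B ⧸ m) l hl
    exact (Iso.homCongr (((ModuleCat.restrictScalars.{u} χ).mapDerivedCategorySingleFunctor 0).app
      (ModuleCat.of (B ⧸ m) (B ⧸ m))) (Iso.refl _)).subsingleton
  have hsub : Subsingleton ((DRing.restrictD (Ideal.Quotient.mk m)).obj N ⟶ ω⟦l⟧) := by
    refine Equiv.subsingleton (β := ((DRing.restrictD χ).obj N ⟶ (Dual.inD k k)⟦l⟧)) ?_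
    exact eq₁.symm.trans ((adjq.homEquiv _ _).trans ((Iso.homCongr (Iso.refl _) c.symm).trans
      ((adji.homEquiv _ _).symm.trans ((adj.homEquiv _ _).symm.trans
        ((Iso.homCongr cc (Iso.refl _)).trans eq₂)))))
  exact @Equiv.subsingleton _ _ (Iso.homCongr (((ModuleCat.restrictScalars.{u} (Ideal.Quotient.mk m)).mapDerivedCategorySingleFunctor 0).app
    (ModuleCat.of (B ⧸ m) (B ⧸ m))) (Iso.refl (ω⟦l⟧))).symm hsub

end Groth.Agent.DualField7
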