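import Groth.Agent.DualField7.Stalks
import Groth.Agent.BMLib.Dim

/-!
# Amplitude and supports
-/

set_option linter.style.haveILetI false
set_option backward.isDefEq.respectTransparency false
set_option backward.isDefEq.respectTransparency.types false

universe u

open CategoryTheory CategoryTheory.Limits AlgebraicGeometry Order Topology

attribute [local instance] HasDerivedCategory.standard

namespace Groth.Agent.DualField7

variable {X : Scheme.{u}}

/-- A bound on the dimension of a closed subset from the closed points. -/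
theorem topologicalKrullDim_le_of_closed [CompactSpace X] {S : Set X} (hS : IsClosed S) (n : ℕ)
    (h : ∀ y ∈ S, IsClosed ({y} : Set X) → ∀ (l : ℕ) (s : Fin (l + 1) → X),
      (∀ i, s i ∈ S) → (∀ i, s i ⤳ y) → (∀ i : Fin l, s i.succ ⤳ s i.castSucc ∧ s i.succ ≠ s i.castSucc) → l ≤ n) :
    topologicalKrullDim S ≤ (n : WithBot ℕ∞) := by
  haveI : QuasiSober S := hS.isClosedEmbedding_subtypeVal.quasiSober
  rw [BMLib.topologicalKrullDim_eq_points]
  letI := specializationOrder S
  refine iSup_le fun s => ?_
  have hne : (closure ({(s.head : X)} : Set X)).Nonempty := ⟨_, subset_closure rfl⟩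
  obtain ⟨y, hy, hyc⟩ := IsClosed.exists_closed_singleton (S := closure ({(s.head : X)} : Set X)) isClosed_closure hne
  have hyS : y ∈ S := closure_minimal (Set.singleton_subset_iff.2 s.head.2) hS hy
  have h0 : (s.head : X) ⤳ y := specializes_iff_mem_closure.2 hy
  have hle : ∀ i, @LE.le _ (specializationOrder S).toPreorder.toLE s.head (s i) := fun i => @LTSeries.head_le _ (specializationOrder S).toPreorder s i
  have := h y hyS hyc s.length (fun i => (s i : X)) (fun i => (s i).2) (fun i =>
    (((subtype_specializes_iff _ _).1 (hle i)) : (s i : X) ⤳ (s.head : X)).trans h0)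
    fun i => by
      have hs : @LT.lt _ (specializationOrder S).toPreorder.toLT (s i.castSucc) (s i.succ) := s.step i
      exact ⟨(subtype_specializes_iff _ _).1 (@le_of_lt _ (specializationOrder S).toPreorder _ _ hs),
        fun e => (@ne_of_lt _ (specializationOrder S).toPreorder _ _ hs) (Subtype.ext e.symm)⟩
  exact_mod_cast this

/-- Chains near a closed point lift to the local ring. -/
theorem length_le_supportDim {R : CommRingCat.{u}} (j : Spec R ⟶ X) [IsOpenImmersion j] (m : Spec R)
    (M : Type u) [AddCommGroup M] [Module (Localization.AtPrime m.asIdeal) M] (S : Set X)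
    (hS : ∀ P : PrimeSpectrum (Localization.AtPrime m.asIdeal),
      j (PrimeSpectrum.comap (algebraMap R (Localization.AtPrime m.asIdeal)) P) ∈ S →
        P ∈ Module.support (Localization.AtPrime m.asIdeal) M)
    (l : ℕ) (s : Fin (l + 1) → X) (h1 : ∀ i, s i ∈ S) (h2 : ∀ i, s i ⤳ j m)
    (h3 : ∀ i : Fin l, s i.succ ⤳ s i.castSucc ∧ s i.succ ≠ s i.castSucc) :
    (l : WithBot ℕ∞) ≤ Module.supportDim (Localization.AtPrime m.asIdeal) M := by
  choose p hp using fun i => (h2 i).mem_open j.isOpenEmbedding.isOpen_range ⟨m, rfl⟩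
  have hpm : ∀ i, (p i : PrimeSpectrum R).asIdeal ≤ m.asIdeal := fun i =>
    (PrimeSpectrum.le_iff_specializes (p i) m).2
      ((j.isOpenEmbedding.isInducing.specializes_iff).1 (by rw [hp]; exact h2 i))
  have hP : ∀ i, ∃ P : PrimeSpectrum (Localization.AtPrime m.asIdeal),
      PrimeSpectrum.comap (algebraMap R (Localization.AtPrime m.asIdeal)) P = p i := fun i => by
    have hd : Disjoint (m.asIdeal.primeCompl : Set R) ((p i : PrimeSpectrum R).asIdeal : Set R) :=
      Set.disjoint_left.2 fun r hr hr' => hr (hpm i hr')
    refine ⟨⟨_, IsLocalization.isPrime_of_isPrime_disjoint m.asIdeal.primeCompl (Localization.AtPrime m.asIdeal) _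
      (p i : PrimeSpectrum R).isPrime hd⟩, PrimeSpectrum.ext ?_⟩
    exact IsLocalization.comap_map_of_isPrime_disjoint m.asIdeal.primeCompl (Localization.AtPrime m.asIdeal) (p i : PrimeSpectrum R).isPrime hd
  choose P hP using hP
  have hmem : ∀ i, P i ∈ Module.support (Localization.AtPrime m.asIdeal) M := fun i =>
    hS _ (by rw [hP, hp]; exact h1 i)
  have hlt : ∀ i : Fin l, P i.succ < P i.castSucc := fun i => by
    have hne : P i.succ ≠ P i.castSucc := fun e => (h3 i).2 (by rw [← hp, ← hp, ← hP, ← hP, e])
    refine lt_of_le_of_ne ?_ hne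
    have hle : (p i.succ : PrimeSpectrum R).asIdeal ≤ (p i.castSucc : PrimeSpectrum R).asIdeal :=
      (PrimeSpectrum.le_iff_specializes (p i.succ) (p i.castSucc)).2
        ((j.isOpenEmbedding.isInducing.specializes_iff).1 (by rw [hp, hp]; exact (h3 i).1))
    rw [← hP, ← hP] at hle
    show (P i.succ).asIdeal ≤ (P i.castSucc).asIdeal
    rw [← IsLocalization.map_comap m.asIdeal.primeCompl _ (P i.succ).asIdeal,
      ← IsLocalization.map_comap m.asIdeal.primeCompl _ (P i.castSucc).asIdeal]
    exact Ideal.map_mono hle
  let L : LTSeries (Module.support (Localization.AtPrime m.asIdeal) M) :=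
    { length := l
      toFun := fun i => ⟨P (Fin.rev i), hmem _⟩
      step := fun i => by
        show P (Fin.rev i.castSucc) < P (Fin.rev i.succ)
        rw [Fin.rev_castSucc, Fin.rev_succ]
        exact hlt _ }
  exact Order.LTSeries.length_le_krullDim L

end Groth.Agent.DualField7
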