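import Groth.Agent.DualField7.Dim
import Groth.Agent.CurveCohLib.SubBundle
import Groth.Agent.QCoh.Support
import Groth.Agent.QCoh.DevissageP
import Groth.Agent.ShriekCoh7.Main

/-!
# Amplitude and supports of the dualizing complex over a field
-/

set_option linter.style.haveILetI false
set_option backward.isDefEq.respectTransparency false
set_option backward.isDefEq.respectTransparency.types false
set_option maxHeartbeats 1000000

universe u

open CategoryTheory CategoryTheory.Limits AlgebraicGeometry

attribute [local instance] HasDerivedCategory.standard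

namespace Groth.Agent.DualField7

open Groth.Agent.KFlatLib Groth.Agent.PerfGen7

variable [∀ (R : CommRingCat.{u}), PreservesFiniteLimits (tilde.functor R)]
  [∀ (U V : Scheme.{u}) (j : U ⟶ V) [IsOpenImmersion j], PreservesFiniteLimits (Scheme.Modules.restrictFunctor j)]
  {k : Type u} [Field k] {X : Scheme.{u}}
  (f : X ⟶ Spec (CommRingCat.of k)) [IsProper f] [DCoh.HasRpush f] (hf : DCoh.RpushPreservesQCoh f)
  {a : DCoh.DQCoh (Spec (CommRingCat.of k)) ⥤ DCoh.DQCoh X} (adj : DCoh.RpushQ f hf ⊣ a)
  (O : DCoh.DQCoh (Spec (CommRingCat.of k)))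
  (hO : Nonempty (O.obj ≅ DCoh.inD (Spec (CommRingCat.of k)) (Coh.structureModule (Spec (CommRingCat.of k)))))

include adj hO

/-- `a(O)` is a dualizing complex. -/
theorem isDualizingSch : Dual2.IsDualizingSch X (a.obj O).obj := by
  haveI : PreservesFiniteColimits (tilde.functor (CommRingCat.of k)) := QCoh.tilde_preservesFiniteColimits
  haveI : (tilde.functor (CommRingCat.of k)).Additive := KFlatLib.tilde_additive _
  obtain ⟨st⟩ := Dual3Gor7.nonempty_structure_restrict (A := k) (𝟙 (Spec (CommRingCat.of k)))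
  obtain ⟨eO⟩ := hO
  exact ShriekDual7.isDualizingSch_rightAdjoint f hf adj O
    (DualCover7.isDualizingSch_of_cover O.obj PUnit.{u+1} (fun _ => k)
      (fun _ => 𝟙 (Spec (CommRingCat.of k))) (fun x => ⟨⟨⟩, x, rfl⟩)
      fun _ => ⟨Dual.inD k k, (Groth.Agent.S11179.result k).1 (Groth.Agent.S0342.result k),
        ⟨(rho _).mapIso eO ≪≫ st⟩⟩)

/-- `a(O)` has coherent cohomology. -/
theorem isCohD : DCoh.IsCohD (a.obj O).obj := by
  obtain ⟨eO⟩ := hO
  haveI : O.obj.IsGE 0 := by
    haveI : (DCoh.inD (Spec (CommRingCat.of k)) (Coh.structureModule (Spec (CommRingCat.of k)))).IsGE 0 := by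
      show DerivedCategory.IsGE ((DerivedCategory.singleFunctor _ 0).obj _) 0
      infer_instance
    exact DerivedCategory.TStructure.t.isGE_of_iso eO.symm 0
  refine ShriekCoh7.isCohD_rightAdjoint f hf adj O 0 fun i => ?_
  refine isCoh_of_iso ((DerivedCategory.homologyFunctor _ i).mapIso eO).symm ?_
  rcases lt_trichotomy i 0 with hi | rfl | hi
  · exact isCoh_of_isZero (DerivedCategory.isZero_of_isGE _ 0 i hi)
  · exact isCoh_of_iso ((DerivedCategory.singleFunctorCompHomologyFunctorIso _ 0).app _).symm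
      (QCoh.isCoh_structureModule')
  · exact isCoh_of_isZero (DerivedCategory.isZero_of_isLE _ 0 i hi)

/-- Cohomology lives in `[-d, 0]`. -/
theorem isZero_hd (d : ℕ) (hd : topologicalKrullDim X ≤ d) (i : ℤ) (hi : i < -(d : ℤ) ∨ 0 < i) :
    IsZero (DCoh.HD (a.obj O).obj i) := by
  haveI : CompactSpace X := QuasiCompact.compactSpace_of_compactSpace f
  refine isZero_of_stalk _ fun x => ?_
  by_contra hx
  have hx' : Nontrivial ((DCoh.HD (a.obj O).obj i).presheaf.stalk x) := by
    refine not_subsingleton_iff_nontrivial.1 fun h => hx ?_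
    haveI : Subsingleton ((DerSch.stalkFunctor X x).obj (DCoh.HD (a.obj O).obj i) : Type u) := h
    exact ModuleCat.isZero_of_subsingleton _
  obtain ⟨y, hy, hyc⟩ := IsClosed.exists_closed_singleton (S := closure ({x} : Set X)) isClosed_closure
    ⟨x, subset_closure rfl⟩
  obtain ⟨R, hR, j, hj, m, hm, ω, rfl, hω, hn, hst⟩ := exists_local_data f hf adj O hO y hyc
  have hxy : x ⤳ j m := specializes_iff_mem_closure.2 hy
  obtain ⟨p, rfl⟩ := hxy.mem_open j.isOpenEmbedding.isOpen_range ⟨m, rfl⟩
  have hpm : (p : PrimeSpectrum R).asIdeal ≤ (m : PrimeSpectrum R).asIdeal :=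
    (PrimeSpectrum.le_iff_specializes p m).2 ((j.isOpenEmbedding.isInducing.specializes_iff).1 hxy)
  let mI := (m : PrimeSpectrum R).asIdeal
  let B := Localization.AtPrime mI
  have hdj : Disjoint (mI.primeCompl : Set R) ((p : PrimeSpectrum R).asIdeal : Set R) :=
    Set.disjoint_left.2 fun r hr hr' => hr (hpm hr')
  let P : PrimeSpectrum B := ⟨_, IsLocalization.isPrime_of_isPrime_disjoint mI.primeCompl B _
    (p : PrimeSpectrum R).isPrime hdj⟩
  have hP : PrimeSpectrum.comap (algebraMap R B) P = p :=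
    PrimeSpectrum.ext (IsLocalization.comap_map_of_isPrime_disjoint mI.primeCompl B (p : PrimeSpectrum R).isPrime hdj)
  have hsupp : P ∈ Module.support B (Dual.HD B ω i) := by
    refine (hst P i).1 ?_
    rw [hP]
    exact hx'
  haveI : IsNoetherianRing B := IsLocalization.isNoetherianRing mI.primeCompl _ inferInstance
  obtain ⟨eB⟩ := exists_homRingLEquiv ω i
  haveI : Nontrivial (Dual.HD B ω i) := Module.nonempty_support_iff.1 ⟨P, hsupp⟩
  haveI : Nontrivial (Dual.inD B B ⟶ ω⟦i⟧) := eB.toEquiv.nontrivial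
  obtain ⟨e, he⟩ := LocalizeDual.exists_supportDim_eq (B := B) B
  obtain ⟨h1, h2⟩ := (Groth.Agent.S0366.result B ω hω hn B e he i).1 inferInstance
  have hle : (e : WithBot ℕ∞) ≤ d := by
    rw [← he, Module.supportDim_self_eq_ringKrullDim]
    let s : X.presheaf.stalk (j m) ≃+* B :=
      ((asIso (j.stalkMap m)).commRingCatIsoToRingEquiv).trans (StructureSheaf.stalkIso R m).toRingEquiv.symm
    rw [← ringKrullDim_eq_of_ringEquiv s]
    exact (CurveCohLib.ringKrullDim_stalk_le_topologicalKrullDim _).trans hd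
  have : e ≤ d := by exact_mod_cast hle
  omega

/-- The support of `H^i` has dimension at most `-i`. -/
theorem dim_support_le (i : ℤ) (n : ℕ) (hn : (n : ℤ) = -i) :
    topologicalKrullDim {x : X | Nontrivial ((DCoh.HD (a.obj O).obj i).presheaf.stalk x)} ≤ (n : WithBot ℕ∞) := by
  haveI : CompactSpace X := QuasiCompact.compactSpace_of_compactSpace f
  have hS : IsClosed {x : X | Nontrivial ((DCoh.HD (a.obj O).obj i).presheaf.stalk x)} := by
    have hc := isCohD f hf adj O hO i
    have := QCoh.isClosed_support_of_isFT hc.1 hc.2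
    simpa [CohB1.support, not_subsingleton_iff_nontrivial] using this
  refine topologicalKrullDim_le_of_closed hS n fun y hy hyc l s h1 h2 h3 => ?_
  obtain ⟨R, hR, j, hj, m, hm, ω, rfl, hω, hnm, hst⟩ := exists_local_data f hf adj O hO y hyc
  let B := Localization.AtPrime (m : PrimeSpectrum R).asIdeal
  haveI : IsNoetherianRing B := IsLocalization.isNoetherianRing (m : PrimeSpectrum R).asIdeal.primeCompl _ inferInstance
  obtain ⟨e, he⟩ := LocalizeDual.exists_supportDim_eq (B := B) B
  have h4 := length_le_supportDim j m (Dual.HD B ω i) _ (fun P hP => (hst P i).1 hP) l s h1 h2 h3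
  obtain ⟨eB⟩ := exists_homRingLEquiv ω i
  have h5 : Module.supportDim B (Dual.HD B ω i) = Module.supportDim B (Dual.inD B B ⟶ ω⟦i⟧) := by
    unfold Module.supportDim
    rw [eB.support_eq]
  have h6 : (l : WithBot ℕ∞) ≤ ((-i).toNat : WithBot ℕ∞) :=
    h4.trans (h5.le.trans (Groth.Agent.S0366.result B ω hω hnm B e he i).2)
  have : l ≤ (-i).toNat := by exact_mod_cast h6
  omega

end Groth.Agent.DualField7
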