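import Groth.Agent.DualField7.Closed
import Groth.Agent.PerfGen7.DualSchCM

/-!
# The dualizing complex of a scheme proper over a field at closed points
-/

set_option linter.style.haveILetI false
set_option backward.isDefEq.respectTransparency false
set_option backward.isDefEq.respectTransparency.types false
set_option maxHeartbeats 1000000

universe v u

open CategoryTheory CategoryTheory.Limits AlgebraicGeometry

attribute [local instance] HasDerivedCategory.standard

namespace Groth.Agent.DualField7

open Groth.Agent.KFlatLib Groth.Agent.PerfGen7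

/-- Supports localize. -/
theorem mem_support_localized_iff {R : Type u} [CommRing R] (m : Ideal R) [m.IsPrime] (M : Type v)
    [AddCommGroup M] [Module R M] (P : PrimeSpectrum (Localization.AtPrime m)) :
    P ∈ Module.support (Localization.AtPrime m) (LocalizedModule m.primeCompl M) ↔
      PrimeSpectrum.comap (algebraMap R (Localization.AtPrime m)) P ∈ Module.support R M := by
  have hle : (PrimeSpectrum.comap (algebraMap R (Localization.AtPrime m)) P).asIdeal ≤ m := fun r hr => by
    by_contra hrm
    exact P.isPrime.ne_top (Ideal.eq_top_of_isUnit_mem _ hr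
      (IsLocalization.map_units (Localization.AtPrime m) (⟨r, hrm⟩ : m.primeCompl)))
  rw [Module.mem_support_iff', Module.mem_support_iff']
  constructor
  · rintro ⟨z, hz⟩
    induction z using LocalizedModule.induction_on with
    | h v s =>
      refine ⟨v, fun r hr h0 => hz (algebraMap R _ r) hr ?_⟩
      rw [algebraMap_smul, LocalizedModule.smul'_mk, h0, LocalizedModule.zero_mk]
  · rintro ⟨v, hv⟩
    refine ⟨LocalizedModule.mk v 1, fun q hq h0 => ?_⟩
    obtain ⟨r, s, rfl⟩ := IsLocalization.exists_mk'_eq m.primeCompl q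
    have hr : r ∉ (PrimeSpectrum.comap (algebraMap R (Localization.AtPrime m)) P).asIdeal := fun h =>
      hq ((IsLocalization.mk'_mem_iff).2 h)
    rw [← Localization.mk_eq_mk', LocalizedModule.mk_smul_mk, ← LocalizedModule.zero_mk (1 : m.primeCompl),
      LocalizedModule.mk_eq] at h0
    obtain ⟨t, ht⟩ := h0
    simp only [one_smul, smul_zero] at ht
    rw [Submonoid.smul_def, smul_smul] at ht
    refine hv (t.1 * r) (fun h => ?_) ht
    exact ((PrimeSpectrum.comap (algebraMap R (Localization.AtPrime m)) P).isPrime.mem_or_mem h).elim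
      (fun h => t.2 (hle h)) hr

variable [∀ (R : CommRingCat.{u}), PreservesFiniteLimits (tilde.functor R)]
  [∀ (U V : Scheme.{u}) (j : U ⟶ V) [IsOpenImmersion j], PreservesFiniteLimits (Scheme.Modules.restrictFunctor j)]

/-- The local picture at a closed point. -/
theorem exists_local_data {k : Type u} [Field k] {X : Scheme.{u}}
    (f : X ⟶ Spec (CommRingCat.of k)) [IsProper f] [DCoh.HasRpush f] (hf : DCoh.RpushPreservesQCoh f)
    {a : DCoh.DQCoh (Spec (CommRingCat.of k)) ⥤ DCoh.DQCoh X} (adj : DCoh.RpushQ f hf ⊣ a)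
    (O : DCoh.DQCoh (Spec (CommRingCat.of k)))
    (hO : Nonempty (O.obj ≅ DCoh.inD (Spec (CommRingCat.of k)) (Coh.structureModule (Spec (CommRingCat.of k)))))
    (y : X) (hy : IsClosed ({y} : Set X)) :
    ∃ (R : CommRingCat.{u}) (_ : IsNoetherianRing R) (j : Spec R ⟶ X) (_ : IsOpenImmersion j)
      (m : Spec R) (_ : m.asIdeal.IsMaximal) (ω : Dual.D (Localization.AtPrime m.asIdeal)),
      j m = y ∧ Dual.IsDualizing (Localization.AtPrime m.asIdeal) ω ∧
        Dual.IsNormalized (Localization.AtPrime m.asIdeal) ω ∧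
      ∀ (P : PrimeSpectrum (Localization.AtPrime m.asIdeal)) (i : ℤ),
        Nontrivial ((DCoh.HD (a.obj O).obj i).presheaf.stalk
            (j (PrimeSpectrum.comap (algebraMap R (Localization.AtPrime m.asIdeal)) P))) ↔
          P ∈ Module.support (Localization.AtPrime m.asIdeal) (Dual.HD (Localization.AtPrime m.asIdeal) ω i) := by
  haveI : IsLocallyNoetherian X := LocallyOfFiniteType.isLocallyNoetherian f
  obtain ⟨eO'⟩ := hO
  haveI : PreservesFiniteColimits (tilde.functor (CommRingCat.of k)) := QCoh.tilde_preservesFiniteColimits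
  haveI : (tilde.functor (CommRingCat.of k)).Additive := KFlatLib.tilde_additive _
  obtain ⟨st⟩ := Dual3Gor7.nonempty_structure_restrict (A := k) (𝟙 (Spec (CommRingCat.of k)))
  let eO : O.obj ≅ (DCoh.tildeD (CommRingCat.of k)).obj (Dual.inD k k) :=
    eO' ≪≫ (rhoId _).symm ≪≫ st
  haveI : IsNoetherian (Spec (CommRingCat.of k)) := inferInstance
  have hdk : Dual2.IsDualizingSch (Spec (CommRingCat.of k)) O.obj :=
    DualCover7.isDualizingSch_of_cover O.obj PUnit.{u+1} (fun _ => k)
      (fun _ => 𝟙 (Spec (CommRingCat.of k))) (fun x => ⟨⟨⟩, x, rfl⟩)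
      fun _ => ⟨Dual.inD k k, (Groth.Agent.S11179.result k).1 (Groth.Agent.S0342.result k),
        ⟨rhoId _ ≪≫ eO⟩⟩
  have hD := ShriekDual7.isDualizingSch_rightAdjoint f hf adj O hdk
  obtain ⟨R, hR, j, hj, ωR, hωR, ⟨m, rfl⟩, hst⟩ := DualSchCM.exists_chart_data hD y
  obtain ⟨ωR', hωR', ⟨e⟩⟩ := hD R j
  haveI hm : m.asIdeal.IsMaximal := by
    rw [← PrimeSpectrum.isClosed_singleton_iff_isMaximal]
    have := hy.preimage j.continuous
    rwa [← Set.image_singleton, Set.preimage_image_eq _ j.isOpenEmbedding.injective] at this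
  obtain ⟨n, hn, -, -, -⟩ := exists_extDegree hωR'
  have hnm : n m = 0 := by
    by_contra hne
    haveI := subsingleton_ext_closed f hf adj O eO j e m.asIdeal (n m) hne
    exact (not_nontrivial _) ((hn m (n m)).2 rfl)
  obtain ⟨ω, h1, h2, h3⟩ := LocalizeDual.exists_local hωR' hn m
  refine ⟨R, hR, j, hj, m, hm, ω, rfl, h1, h2, fun P i => ?_⟩
  let B := Localization.AtPrime m.asIdeal
  obtain ⟨c⟩ := h3 R i
  rw [hnm, zero_add] at c
  obtain ⟨eW⟩ := exists_homRingLEquiv ωR' i
  obtain ⟨eB⟩ := exists_homRingLEquiv ω i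
  let c1 := (Linear.homCongr B
    ((DerivedCategory.singleFunctor (ModuleCat.{u} B) 0).mapIso (LC.selfLoc m.asIdeal.primeCompl).toModuleIso)
    (Iso.refl (ω⟦i⟧))).symm.trans c
  let c2 : Dual.HD B ω i ≃ₗ[B] LocalizedModule m.asIdeal.primeCompl (Dual.inD R R ⟶ ωR'⟦i⟧) := eB.symm.trans c1
  rw [c2.support_eq]
  refine Iff.trans ?_ (mem_support_localized_iff (R := R) (m : PrimeSpectrum R).asIdeal _ P).symm
  rw [eW.support_eq, Module.mem_support_iff]
  let p : Spec R := PrimeSpectrum.comap (algebraMap R B) P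
  show Nontrivial ((DCoh.HD (a.obj O).obj i).presheaf.stalk (j p)) ↔
    Nontrivial (LocalizedModule p.asIdeal.primeCompl (Dual.HD R ωR' i))
  rw [← not_iff_not, not_nontrivial_iff_subsingleton, not_nontrivial_iff_subsingleton,
    LocalizedModule.subsingleton_iff]
  have g1 := isZero_stalk_rho_iff j (a.obj O).obj p i
  let N : ModuleCat.{u} R := (DerivedCategory.homologyFunctor (ModuleCat.{u} R) i).obj ωR'
  have g2 := isZero_stalk_tilde_iff (R := R) N p
  have g3 : IsZero ((DerSch.stalkFunctor (Spec R) p).obj (DCoh.HD ((rho j).obj (a.obj O).obj) i)) ↔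
      IsZero ((DerSch.stalkFunctor (Spec R) p).obj ((tilde.functor R).obj N)) :=
    ((DerSch.stalkFunctor (Spec R) p).mapIso ((DerivedCategory.homologyFunctor (Spec R).Modules i).mapIso e ≪≫
      (mapDCHomologyIso (tilde.functor R) i).app ωR')).isZero_iff
  constructor
  · intro h
    haveI : Subsingleton ((DerSch.stalkFunctor X (j p)).obj (DCoh.HD (a.obj O).obj i) : Type u) := h
    exact g2.1 (g3.1 (g1.2 (ModuleCat.isZero_of_subsingleton _)))
  · intro h
    exact ModuleCat.subsingleton_of_isZero (g1.1 (g3.2 (g2.2 h)))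

end Groth.Agent.DualField7
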